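import Mathlib
import Cfsg.Agent.Asc.Cons
import Cfsg.Agent.Ben.Cons2

set_option autoImplicit false
set_option linter.unusedSectionVars false
set_option linter.style.haveILetI false

/-! Consequences of Aschbacher's criterion for the conjugates of the involutions of a subgroup. -/

namespace Cfsg.Agent.Asc

open MulAction Subgroup Cfsg.Agent.Ben Cfsg.Agent.Core
open scoped Pointwise commutatorElement

variable {G Ω : Type*} [Group G] [Finite G] [MulAction G Ω] {Z : Set G}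

/-- The conjugates of the involutions of `R`. -/
def ZR (R : Subgroup G) : Set G := {x | x ≠ 1 ∧ x * x = 1 ∧ ∃ g : G, g⁻¹ * x * g ∈ R}

theorem mem_ZR {R : Subgroup G} {x : G} (h : x ∈ R) (h1 : x ≠ 1) (h2 : x * x = 1) : x ∈ ZR R :=
  ⟨h1, h2, 1, by simpa using h⟩

theorem conj_ne_one {x : G} (h : x ≠ 1) (g : G) : g * x * g⁻¹ ≠ 1 :=
  fun e => h (by simpa [mul_assoc] using congrArg (fun x => g⁻¹ * x * g) e)

theorem conj_sq {x : G} (h : x * x = 1) (g : G) : g * x * g⁻¹ * (g * x * g⁻¹) = 1 := by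
  rw [show g * x * g⁻¹ * (g * x * g⁻¹) = g * (x * x) * g⁻¹ by group, h]; group

theorem zs_quot {R H : Subgroup G} (hH : H ≠ ⊤) (hRH : R ≤ H) (he : Even (Nat.card R))
    (h1 : ∀ x ∈ R, x ≠ 1 → x * x = 1 → ∀ g : G, g * x * g⁻¹ ∈ H → g ∈ H)
    (h2 : ∀ x ∈ R, ∀ y ∈ R, x * x = 1 → y * y = 1 → ∀ h ∈ H, x * (h * y * h⁻¹) = h * y * h⁻¹ * x →
      ∃ g : G, g⁻¹ * (x * (h * y * h⁻¹)) * g ∈ R) :
    ZS G (G ⧸ H) (ZR R) := by
  have hfix : ∀ x ∈ ZR R, ∀ g : G, g⁻¹ * x * g ∈ R → ∀ k : G, x • (k : G ⧸ H) = k ↔ (k : G ⧸ H) = g := by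
    intro x hx g hg k
    rw [quot_fix, QuotientGroup.eq]
    refine ⟨fun h => h1 _ hg (by simpa using conj_ne_one hx.1 g⁻¹) (by simpa using conj_sq hx.2.1 g⁻¹) _
      (by simpa [mul_assoc] using h), fun h => ?_⟩
    simpa [mul_assoc] using mul_mem (mul_mem h (hRH hg)) (inv_mem h)
  refine ⟨fun a b => exists_smul_eq G a b, ?_, ?_, fun x hx g => ?_, fun x hx => hx.1,
    fun x hx => hx.2.1, fun x hx => ?_, fun x hx c d => ?_, fun x hx y hy hne hc => ?_⟩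
  · obtain ⟨g, -, hg⟩ := SetLike.exists_of_lt (lt_top_iff_ne_top.2 hH)
    exact ⟨_, _, quot_ne_one hg⟩
  · obtain ⟨z, hz, z1, z2⟩ := RankOne.exists_involution_mem he
    exact ⟨z, mem_ZR hz z1 z2⟩
  · obtain ⟨k, hk⟩ := hx.2.2
    exact ⟨conj_ne_one hx.1 g, conj_sq hx.2.1 g, g * k, by simpa [mul_assoc] using hk⟩
  · obtain ⟨g, hg⟩ := hx.2.2
    exact ⟨g, (hfix x hx g hg g).2 rfl⟩
  · obtain ⟨g, hg⟩ := hx.2.2
    induction c using QuotientGroup.induction_on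
    induction d using QuotientGroup.induction_on
    exact fun hc hd => ((hfix x hx g hg _).1 hc).trans ((hfix x hx g hg _).1 hd).symm
  · obtain ⟨g, hg⟩ := hx.2.2
    obtain ⟨k, hk⟩ := hy.2.2
    have h3 : g⁻¹ * k ∈ H := by
      rw [← QuotientGroup.eq, ← hfix y hy k hk, quot_fix]
      refine h1 _ hg (by simpa using conj_ne_one hx.1 g⁻¹) (by simpa using conj_sq hx.2.1 g⁻¹) _ ?_
      have : g⁻¹ * (y * g) * (g⁻¹ * x * g) * (g⁻¹ * (y * g))⁻¹ = g⁻¹ * x * g := by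
        calc _ = g⁻¹ * (y * x) * y⁻¹ * g := by group
          _ = _ := by rw [← hc]; group
      rw [this]
      exact hRH hg
    obtain ⟨m, hm⟩ := h2 _ hg _ hk (by simpa using conj_sq hx.2.1 g⁻¹) (by simpa using conj_sq hy.2.1 k⁻¹) _ h3
      (by simpa [mul_assoc] using congrArg (fun x => g⁻¹ * x * g) hc)
    refine ⟨fun e => hne (by rw [eq_inv_of_mul_eq_one_left e, inv_of_sq hy.2.1]), ?_, g * m,
      by simpa [mul_assoc] using hm⟩
    rw [mul_assoc, ← mul_assoc y, ← hc, mul_assoc x, hy.2.1, mul_one, hx.2.1]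

theorem zs_tight {Q : Subgroup G} (he : Even (Nat.card Q)) (hn : ¬ Q.Normal)
    (hodd : ∀ g : G, g ∉ normalizer (Q : Set G) →
      Odd (Nat.card ↥(Q.map (MulAut.conj g).toMonoidHom ⊓ normalizer (Q : Set G)))) :
    ZS G (G ⧸ normalizer (Q : Set G)) (ZR Q) := by
  refine zs_quot (fun h => hn (normalizer_eq_top_iff.1 h)) le_normalizer he (fun x hx x1 x2 g hg => ?_)
    fun x hx y hy _ _ h hh _ => ⟨1, by simpa using mul_mem hx (conj_mem_of_norm hh hy)⟩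
  by_contra h
  exact conj_ne_one x1 g (RankOne.eq_one_of_mul_self (hodd g h) ⟨⟨x, hx, rfl⟩, hg⟩ (conj_sq x2 g))

theorem ZW.isSE_of (hG : ZW G Ω Z) {K : Subgroup G} (h2 : K ≤ closure Z) {a : Ω} (hK : ¬ K ≤ stabilizer G a)
    {s : G} (hs : s ∈ K) (hsa : s • a = a) (s1 : s ≠ 1) (s2 : s * s = 1)
    (hf : ∀ u ∈ K, u * u = 1 → (∀ c : Ω, u • c = c) → u = 1) :
    Cfsg.IsStronglyEmbedded ((stabilizer G a).subgroupOf K) := by
  refine Inv.se_of (fun h => hK (subgroupOf_eq_top.1 h)) (s := ⟨s, hs⟩) hsa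
    (by rw [← orderOf_coe]; exact Inv.two_of_mul_self s1 s2) fun t ht t2 g hg => ?_
  have h5 : (t : G) * t = 1 := congrArg Subtype.val (Inv.mul_self_of_two t2)
  obtain ⟨b, hb⟩ : ∃ b : Ω, (t : G) • b ≠ b := by
    by_contra! h
    exact Inv.ne_one_of_two t2 (Subtype.ext (hf t t.2 h5 h))
  have h6 : ((g : G) * t * (g : G)⁻¹) • a = a := hg
  rw [mul_smul, mul_smul, ← eq_inv_smul_iff] at h6
  have := hG.uniq_of_sq (h2 t.2) (fun c => by rw [h5, one_smul]) hb h6 ht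
  exact (inv_smul_eq_iff.1 this).symm

end Cfsg.Agent.Asc
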